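import Mathlib

/-!
# Negative definite matrices with nonnegative off-diagonal entries
-/

set_option autoImplicit false

namespace ContractLib

open Matrix

/-- A negative definite matrix with nonnegative off-diagonal entries sends some natural vector to a
positive multiple of minus any nonnegative vector. -/
theorem exists_natural_solution {ι : Type*} [Fintype ι] [DecidableEq ι] (M : Matrix ι ι ℤ)
    (hneg : ∀ c : ι → ℤ, c ≠ 0 → c ⬝ᵥ (M *ᵥ c) < 0) (hoff : ∀ i j, i ≠ j → 0 ≤ M i j)
    (h : ι → ℤ) (hh : ∀ i, 0 ≤ h i) :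
    ∃ (a : ι → ℕ) (K : ℕ), 0 < K ∧ ∀ i, ∑ j, (a j : ℤ) * M i j = -((K : ℤ) * h i) := by
  have hdet : M.det ≠ 0 := fun h0 => by
    obtain ⟨v, hv, hMv⟩ := Matrix.exists_mulVec_eq_zero_iff.2 h0
    have := hneg v hv
    rw [hMv, dotProduct_zero] at this
    exact lt_irrefl _ this
  let v : ι → ℤ := M.det • (M.adjugate *ᵥ (-h))
  let K : ℕ := M.det.natAbs ^ 2
  have hK : (K : ℤ) = M.det ^ 2 := by simp [K]
  have hMv : M *ᵥ v = -((K : ℤ) • h) := by
    simp only [v, hK, mulVec_smul, mulVec_mulVec, mul_adjugate, smul_mulVec, one_mulVec, smul_smul, smul_neg, pow_two]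
  let am : ι → ℤ := fun i => max (-v i) 0
  let ap : ι → ℤ := fun i => max (v i) 0
  have hv : v = ap - am := funext fun i => by simp only [ap, am, Pi.sub_apply]; omega
  have hprod : ∀ i, am i * ap i = 0 := fun i => by
    rcases le_total (v i) 0 with h1 | h1
    · simp [ap, max_eq_right h1]
    · simp [am, max_eq_right (neg_nonpos.2 h1)]
  have ham : am = 0 := by
    by_contra hne
    have h1 : am ⬝ᵥ (M *ᵥ v) ≤ 0 := by
      rw [hMv, dotProduct_neg, neg_nonpos, dotProduct]
      exact Finset.sum_nonneg fun i _ => mul_nonneg (le_max_right _ _) (mul_nonneg (by positivity) (hh i))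
    have h2 : 0 ≤ am ⬝ᵥ (M *ᵥ ap) := by
      simp only [dotProduct, mulVec, Finset.mul_sum]
      refine Finset.sum_nonneg fun i _ => Finset.sum_nonneg fun j _ => ?_
      rcases eq_or_ne i j with rfl | hij
      · rw [← mul_assoc, mul_comm (am i) (M i i), mul_assoc, hprod, mul_zero]
      · exact mul_nonneg (le_max_right _ _) (mul_nonneg (hoff i j hij) (le_max_right _ _))
    have h3 := hneg am hne
    rw [hv, mulVec_sub, dotProduct_sub] at h1
    omega
  refine ⟨fun i => (v i).toNat, K, Nat.pow_pos (Int.natAbs_pos.2 hdet), fun i => ?_⟩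
  have hnn : ∀ j, 0 ≤ v j := fun j => by
    have := congrFun ham j
    simp only [am, Pi.zero_apply] at this
    omega
  have := congrFun hMv i
  simp only [Pi.neg_apply, Pi.smul_apply, smul_eq_mul] at this
  rw [← this]
  simp only [mulVec, dotProduct]
  exact Finset.sum_congr rfl fun j _ => by rw [Int.toNat_of_nonneg (hnn j), mul_comm]

end ContractLib
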