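import Groth.Agent.CubeConsLib.IsoCls
import Groth.Agent.AmpleDevLib.Pull
import Groth.Agent.AmpleThLib.Ample
import Groth.Agent.DevissLib.ClosedImm
import Groth.Agent.AlgSpRegLib.ImageReduced
import Groth.Agent.VertIntLib.Pic

/-!
# Ample modules and constant morphisms
-/

set_option autoImplicit false
set_option linter.style.haveILetI false
set_option backward.isDefEq.respectTransparency false
set_option maxHeartbeats 800000
universe u

open CategoryTheory CategoryTheory.Limits AlgebraicGeometry TopologicalSpace Opposite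
open AmpleLib AmpleThLib AmpleDevLib
open TwistLib (genSet)
open KFlatLib (pb puSec)
open CubeConsLib (pull pull_cl cl cl_eq_iff cl_eq_one_iff pull_eq_one_of_factor)

noncomputable section

namespace ContractLib

variable {Z Y : Scheme.{u}}

/-- A module pulled back along a morphism with subsingleton open image is trivial. -/
theorem pull_trivial_of_open_point (g : Z ⟶ Y) (W : Y.Opens) (hW : (W : Set Y).Subsingleton)
    (hg : ∀ z, g z ∈ W) [Nonempty Z] {A : Y.Modules} (hA : PicF.IsInvertible A) :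
    Nonempty ((Scheme.Modules.pullback g).obj A ≅ Coh.structureModule Z) := by
  haveI : Subsingleton (W : Scheme.{u}) := ⟨fun a b => Subtype.ext (hW a.2 b.2)⟩
  obtain ⟨z⟩ := ‹Nonempty Z›
  haveI : Nonempty (W : Scheme.{u}) := ⟨⟨g z, hg z⟩⟩
  have hle : Set.range g ⊆ Set.range W.ι := by
    rintro _ ⟨z, rfl⟩
    exact ⟨⟨g z, hg z⟩, rfl⟩
  have h : pull g (cl A) = 1 := by
    rw [← IsOpenImmersion.lift_fac W.ι g hle]
    exact pull_eq_one_of_factor _ _ hA
  rw [pull_cl] at h
  exact cl_eq_one_iff.1 h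

/-- A module pulled back from a reduced scheme mapping to a closed point is trivial. -/
theorem pull_trivial_of_closed_point [AlgebraicGeometry.IsReduced Z] [Nonempty Z] (g : Z ⟶ Y) [QuasiCompact g] {y : Y} (hy : IsClosed ({y} : Set Y))
    (hg : ∀ z, g z = y) {A : Y.Modules} (hA : PicF.IsInvertible A) :
    Nonempty ((Scheme.Modules.pullback g).obj A ≅ Coh.structureModule Z) := by
  set I := Scheme.IdealSheafData.vanishingIdeal (⟨{y}, hy⟩ : Closeds Y)
  have hr : Set.range I.subschemeι = {y} :=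
    I.range_subschemeι.trans (by rw [Scheme.IdealSheafData.coe_support_vanishingIdeal]; rfl)
  haveI : Subsingleton I.subscheme := ⟨fun a b => I.subschemeι.isEmbedding.injective
    ((hr.le ⟨a, rfl⟩).trans (hr.le ⟨b, rfl⟩).symm)⟩
  obtain ⟨c, -⟩ := hr.ge rfl
  haveI : Nonempty I.subscheme := ⟨c⟩
  have hle : I.subschemeι.ker ≤ g.ker := by
    rw [Scheme.IdealSheafData.ker_subschemeι, AlgSpRegLib.ker_eq_vanishingIdeal g]
    refine Scheme.IdealSheafData.vanishingIdeal_antimono ?_
    show closure (Set.range g) ⊆ {y}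
    exact closure_minimal (by rintro _ ⟨z, rfl⟩; exact hg z) hy
  have h : pull g (cl A) = 1 := by
    rw [← IsClosedImmersion.lift_fac I.subschemeι g hle]
    exact pull_eq_one_of_factor _ _ hA
  rw [pull_cl] at h
  exact cl_eq_one_iff.1 h

/-- A proper integral scheme over a field on which an ample module becomes trivial goes to a point. -/
theorem subsingleton_range_of_trivial {k : Type u} [Field k] [IsIntegral Z] (q : Z ⟶ Spec (CommRingCat.of k))
    [UniversallyClosed q] (g : Z ⟶ Y) {A : Y.Modules} (hA : CohB1.IsAmple A)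
    (h : Nonempty ((Scheme.Modules.pullback g).obj A ≅ Coh.structureModule Z))
    [QuasiSeparatedSpace Y] {z : Z} (hz : IsClosed ({g z} : Set Y)) : ∀ w : Z, g w = g z := by
  intro w
  by_contra hne
  haveI : CompactSpace Y := hA.2.1
  obtain ⟨_, ⟨n, s, rfl⟩, hw, hsub⟩ := (AmpleThLib.isAmple_iff_isTopologicalBasis hA.1 hA).exists_subset_of_mem_open
    (show g w ∈ ({g z} : Set Y)ᶜ from hne) hz.isOpen_compl
  have hAi : PicF.IsInvertible A := hA.1
  have hpow := tensorPow_isInvertible hAi (n + 1)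
  rw [genLocus_hom hpow] at hw hsub
  set σ := s.app ⊤ (1 : Γ(Y, ⊤))
  obtain ⟨φ, -⟩ := exists_pullPowIso g hAi (n + 1)
  obtain ⟨ψ⟩ : Nonempty (pb g (CohB1.tensorPow A (n + 1)) ≅ Coh.structureModule Z) := by
    refine cl_eq_iff.1 ?_
    have h1 : cl (CohB1.tensorPow (pb g A) (n + 1)) = 1 := by
      rw [VertIntLib.cl_tensorPow, cl_eq_one_iff.2 h, one_pow]
    exact (cl_eq_iff.2 ⟨φ⟩).trans (h1.trans (cl_eq_one_iff.2 ⟨Iso.refl _⟩).symm)
  set τ : Γ(Coh.structureModule Z, ⊤) := ψ.hom.app ⊤ (puSec g σ : Γ(pb g (CohB1.tensorPow A (n + 1)), ⊤))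
  have hset : genSet CurvLib.isInvertible_structureModule τ = g ⁻¹ᵁ genSet hpow σ :=
    (genSet_iso (isInvertible_pb g hpow) _ ψ _).trans (genSet_puSec g hpow σ)
  have hb : genSet CurvLib.isInvertible_structureModule τ ⊓ ⊤ = Z.basicOpen (show Γ(Z, ⊤) from τ) := by
    refine mem_genSet_coeff _ τ (AmpleLib.one_genOn ⊤) ?_
    rw [AmpleLib.res_refl]
    exact mul_one (show Γ(Z, ⊤) from τ)
  rw [inf_top_eq, hset] at hb
  letI := (isField_of_universallyClosed k q).toField
  rcases eq_or_ne (show Γ(Z, ⊤) from τ) 0 with h0 | h0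
  · have : w ∈ Z.basicOpen (show Γ(Z, ⊤) from τ) := hb.le hw
    rw [h0, Scheme.basicOpen_zero] at this
    exact this
  · have : z ∈ g ⁻¹ᵁ genSet hpow σ := hb.ge (by
      rw [Scheme.basicOpen_of_isUnit _ (isUnit_iff_ne_zero.2 h0)]; trivial)
    exact hsub this rfl

end ContractLib
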