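import Groth.Agent.AmpleThLib.Embed
import Groth.Agent.AmpleThLib.VeryAmple
import Groth.Agent.AmpleThLib.ToPn
import Groth.Agent.AmpleDevLib.Pull
import Groth.Agent.PicPnLib.BaseChange
import Groth.Agent.ChowLib.Embed
import Groth.Agent.SteinLib.App
import Groth.Agent.S1297
import Groth.Agent.S1611
import Groth.Agent.S9673

/-!
# The Stein factor of the morphism of a globally generated module
-/

set_option autoImplicit false
set_option linter.style.haveILetI false
set_option backward.isDefEq.respectTransparency false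
set_option maxHeartbeats 800000
universe u

open CategoryTheory CategoryTheory.Limits AlgebraicGeometry TopologicalSpace Opposite
open AmpleLib AmpleThLib
open TwistLib (genSet)

noncomputable section

namespace ContractLib

variable {X : Scheme.{u}} {R : Type u} [CommRing R] [IsNoetherianRing R]

/-- A globally generated invertible module on a proper scheme comes from an ample module on a scheme
projective over the base through a morphism inducing isomorphisms on functions. -/
theorem exists_stein (q : X ⟶ Spec (CommRingCat.of R)) [IsProper q] [IsIntegral X]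
    (hnor : ∀ x : X, IsIntegrallyClosed (X.presheaf.stalk x)) {L : X.Modules} (hL : PicF.IsInvertible L)
    (hgg : Curv2.IsGloballyGenerated L) :
    ∃ (Y : Scheme.{u}) (h : Y ⟶ Spec (CommRingCat.of R)) (f : X ⟶ Y) (A : Y.Modules),
      f ≫ h = q ∧ IsProper h ∧ IsProper f ∧ Surjective f ∧ (∀ U : Y.Opens, Function.Bijective (f.app U)) ∧
      IsIntegral Y ∧ (∀ y : Y, IsIntegrallyClosed (Y.presheaf.stalk y)) ∧
      Neron.IsProjectiveOver R (Over.mk h) ∧
      CohB1.IsAmple A ∧ Nonempty ((Scheme.Modules.pullback f).obj A ≅ L) := by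
  classical
  haveI : CompactSpace X := QuasiCompact.compactSpace_of_compactSpace q
  haveI : IsLocallyNoetherian X := LocallyOfFiniteType.isLocallyNoetherian q
  haveI : IsNoetherian X := ⟨⟩
  choose σ hσ using fun x => Groth.Agent.S1611.exists_genAt_of_gg hL hgg x
  obtain ⟨t, ht⟩ := isCompact_univ.elim_finite_subcover (fun x : X => (genSet hL (σ x) : Set X))
    (fun x => (genSet hL (σ x)).2) (fun x _ => Set.mem_iUnion.mpr ⟨x, hσ x⟩)
  let v : Fin (t.card + 1) → Γ(L, ⊤) := fun i => if h : i.1 < t.card then σ (t.equivFin.symm ⟨i.1, h⟩).1 else 0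
  have hv : ∀ y : X, ∃ i, y ∈ genSet hL (v i) := fun y => by
    obtain ⟨x, hx, hy⟩ := Set.mem_iUnion₂.mp (ht (Set.mem_univ y))
    refine ⟨⟨(t.equivFin ⟨x, hx⟩).1, by omega⟩, ?_⟩
    simp only [v, (t.equivFin ⟨x, hx⟩).2, dite_true, Fin.eta, Equiv.symm_apply_apply]
    exact hy
  obtain ⟨r, e, -, -⟩ := AmpleThLib.exists_toPZ hL v hv
  let S := Spec (CommRingCat.of R)
  let φ : X ⟶ CohB1.ProjSpaceOver t.card S := pullback.lift r q (specULiftZIsTerminal.hom_ext _ _)
  let b := CohB1.ProjSpaceOver.toBase t.card S
  haveI : IsProper b := ChowLib.isProper_toBase t.card S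
  have hφb : φ ≫ b = q := pullback.lift_snd _ _ _
  haveI : IsProper φ := by
    haveI : IsProper (φ ≫ b) := hφb.symm ▸ ‹IsProper q›
    exact IsProper.of_comp φ b
  haveI : IsLocallyNoetherian (CohB1.ProjSpaceOver t.card S) := LocallyOfFiniteType.isLocallyNoetherian b
  haveI : IsFinite φ.fromNormalization := Groth.Agent.S1297.result φ
  let f := φ.toNormalization
  let h := φ.fromNormalization ≫ b
  haveI : IsProper h := inferInstance
  have hfh : f ≫ h = q := by rw [← Category.assoc, φ.toNormalization_fromNormalization, hφb]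
  haveI : IsProper f := by
    haveI : IsProper (f ≫ h) := hfh.symm ▸ ‹IsProper q›
    exact IsProper.of_comp f h
  have hO : ∀ U : φ.normalization.Opens, Function.Bijective (f.app U) := fun U => by
    haveI := SteinLib.isIso_toNormalization_app φ U
    exact ConcreteCategory.bijective_of_isIso _
  haveI hsurj : Surjective f := by
    let U : φ.normalization.Opens := ⟨(Set.range f)ᶜ, f.isClosedMap.isClosed_range.isOpen_compl⟩
    have hU : f ⁻¹ᵁ U = ⊥ := by
      ext x
      simpa [U] using ⟨x, rfl⟩
    haveI : Subsingleton Γ(X, f ⁻¹ᵁ U) :=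
      CommRingCat.subsingleton_of_isTerminal (X.sheaf.isTerminalOfEqEmpty hU)
    haveI : Subsingleton Γ(φ.normalization, U) := (hO U).1.subsingleton
    refine ⟨fun y => ?_⟩
    by_contra hy
    exact not_subsingleton_iff_nontrivial.2 (φ.normalization.presheaf.germ U y hy).hom.domain_nontrivial ‹_›
  have hN : Pi1.IsNormalScheme φ.normalization :=
    (Groth.Agent.S9673.result φ (fun x => ⟨inferInstance, hnor x⟩)
      (fun x => ⟨Set.univ, Filter.univ_mem, by
        haveI := (NoetherianSpace.finite_irreducibleComponents (α := X)).to_subtype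
        exact Set.toFinite _⟩)).1
  haveI hirr : IrreducibleSpace φ.normalization := by
    have hu : IsPreirreducible (Set.univ : Set φ.normalization) := by
      rw [← Set.range_eq_univ.2 f.surjective, ← Set.image_univ]
      exact (PreirreducibleSpace.isPreirreducible_univ (X := X)).image f f.continuous.continuousOn
    exact { toPreirreducibleSpace := ⟨hu⟩, toNonempty := ⟨f (genericPoint X)⟩ }
  haveI : IsReduced φ.normalization := ⟨fun U => isReduced_of_injective (f.app U).hom (hO U).1⟩
  haveI : IsIntegral φ.normalization := isIntegral_of_irreducibleSpace_of_isReduced _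
  let A₀ := Twist.twistOver t.card S 1
  have hA₀i : PicF.IsInvertible A₀ := PicPnLib.twistOver_inv t.card S 1
  have hA₀ : CohB1.IsAmple A₀ := AmpleThLib.isAmple_of_isRelVeryAmplePn b hA₀i
    ⟨t.card, 𝟙 _, inferInstance, Category.id_comp _, ⟨((Scheme.Modules.pullbackId _).app _).symm⟩⟩
  let A := (Scheme.Modules.pullback φ.fromNormalization).obj A₀
  have hA : CohB1.IsAmple A := AmpleDevLib.isAmple_pb φ.fromNormalization hA₀i hA₀
  refine ⟨φ.normalization, h, f, A, hfh, inferInstance, inferInstance, hsurj, hO, inferInstance,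
    fun y => (hN y).2, ?_, hA, ?_⟩
  · obtain ⟨n₀, hd⟩ := AmpleThLib.exists_data h hA.1 hA
    obtain ⟨m, w, K, hcov, haff, hsur⟩ := hd n₀ le_rfl
    obtain ⟨m', i, hi, hih, -⟩ := AmpleThLib.exists_immersion h (tensorPow_isInvertible hA.1 n₀) w K hcov haff hsur
    haveI := hi
    haveI : IsProper (CohB1.ProjSpaceOver.toBase m' S) := ChowLib.isProper_toBase m' S
    haveI : IsProper i := by
      haveI : IsProper (i ≫ CohB1.ProjSpaceOver.toBase m' S) := hih.symm ▸ ‹IsProper h›
      exact IsProper.of_comp i (CohB1.ProjSpaceOver.toBase m' S)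
    exact ⟨m', i, IsClosedImmersion.of_isPreimmersion i i.isClosedMap.isClosed_range, hih⟩
  · exact ⟨(Scheme.Modules.pullbackComp f φ.fromNormalization).app A₀ ≪≫
      (Scheme.Modules.pullbackCongr φ.toNormalization_fromNormalization).app A₀ ≪≫
      (Scheme.Modules.pullbackComp φ (pullback.fst _ _)).app _ ≪≫
      (Scheme.Modules.pullbackCongr (pullback.lift_fst r q _)).app _ ≪≫ e⟩

end ContractLib
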