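import Groth.Agent.ContractLib.DivSec
import Groth.Agent.ContractLib.NegDef
import Groth.Agent.VertIntLib.PicApps
import Groth.Agent.VertChiLib.Chi
import Groth.Agent.S7893
import Groth.Agent.S2329
import Groth.Agent.S1611
import Groth.Agent.S9829
import Groth.Agent.S3250
import Groth.Agent.S4690
import Groth.Agent.SerreVanLib.Main
import Groth.Agent.SerreVanLib.CurveAmple
import Groth.Agent.AmpleThLib.VeryAmple

/-!
# Artin's criterion of contractibility
-/

set_option autoImplicit false
set_option linter.style.haveILetI false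
set_option backward.isDefEq.respectTransparency false
set_option maxHeartbeats 2000000
universe u

open CategoryTheory CategoryTheory.Limits AlgebraicGeometry TopologicalSpace
open AmpleLib AmpleThLib
open TwistLib (genSet)
open KFlatLib (pb puSec)
open HilbPolyLib (assocIso congrLeft congrRight swapIso unitLeft)

noncomputable section

namespace ContractLib

variable {R : Type u} [CommRing R] [IsDomain R] [IsDiscreteValuationRing R]
  {X : Over (Spec (CommRingCat.of R))}

theorem hover_closed (E : ArSurf.VertComp R X) (z : E.curve.left) :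
    X.hom (E.ι z) = IsLocalRing.closedPoint R := by
  rw [← Scheme.Hom.comp_apply, ← VertIntLib.over_hom E, Scheme.Hom.comp_apply]
  refine PrimeSpectrum.ext ?_
  let q : PrimeSpectrum (IsLocalRing.ResidueField R) :=
    (E.curve.left ↘ Spec (CommRingCat.of (IsLocalRing.ResidueField R))) z
  show Ideal.comap (IsLocalRing.residue R) q.asIdeal = IsLocalRing.maximalIdeal R
  rw [Ideal.eq_bot_of_prime q.asIdeal, ← RingHom.ker_eq_comap_bot, IsLocalRing.ker_residue]

/-- The generic fibre of a proper flat integral surface over a discrete valuation ring is a curve. -/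
theorem dim_genericFibre [IsIntegral X.left] [Flat X.hom] [IsProper X.hom] (hdim : topologicalKrullDim X.left = 2) :
    topologicalKrullDim ↥(pullback X.hom (Neron.genPt R)) = 1 := by
  haveI : CompactSpace X.left := QuasiCompact.compactSpace_of_compactSpace X.hom
  let g := pullback.fst X.hom (Neron.genPt R)
  haveI : IsOpenImmersion (Neron.genPt R) := Groth.Agent.S3250.isOpenImmersion_genPt R
  have hrg : ∀ x, x ∈ Set.range g ↔ X.hom x = RelMinSmLib.eta (R := R) := fun x => by
    rw [Scheme.Pullback.range_fst, RelMinSmLib.range_genPt]; rfl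
  obtain ⟨a, ha⟩ := (hrg _).2 (VertIntLib.genericPoint_over (X := X))
  refine le_antisymm ?_ (CurveAmpLib.one_le_of_not_le_zero fun h0 => ?_)
  · by_contra h
    obtain ⟨u, v, w, huv, hvw, nuv, nvw⟩ := VertChiLib.exists_three (A := ↥(pullback X.hom (Neron.genPt R))) h
    obtain ⟨e, he, hecl⟩ := (isClosed_closure (s := ({g w} : Set X.left))).exists_closed_singleton
      ⟨_, subset_closure rfl⟩
    refine RelMinSmLib.not_four hdim.le (huv.map g.continuous) (hvw.map g.continuous)
      (specializes_iff_mem_closure.2 he) (fun h' => nuv (g.isOpenEmbedding.injective h'))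
      (fun h' => nvw (g.isOpenEmbedding.injective h')) ?_
    intro h'
    have h1 := X.hom.isClosedMap _ hecl
    rw [Set.image_singleton, ← h', (hrg _).1 ⟨w, rfl⟩] at h1
    exact VertIntLib.eta_ne_closedPoint ((IsLocalRing.specializes_closedPoint _).mem_closed h1 rfl).symm
  · haveI : IrreducibleSpace ↥(Spec (CommRingCat.of R)) := inferInstanceAs (IrreducibleSpace (PrimeSpectrum R))
    have hdom : DenseRange X.hom := fun q => by
      refine closure_mono ?_ ((RelMinSmLib.eta_specializes q).mem_closure)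
      rintro _ rfl
      exact ⟨_, VertIntLib.genericPoint_over⟩
    have hgen : genericPoint ↥(Spec (CommRingCat.of R)) = RelMinSmLib.eta (R := R) :=
      (((genericPoint_spec ↥(Spec (CommRingCat.of R))).specializes trivial).antisymm
        (RelMinSmLib.eta_specializes _)).eq
    have hR : topologicalKrullDim ↥(Spec (CommRingCat.of R)) ≤ 1 :=
      (PrimeSpectrum.topologicalKrullDim_eq_ringKrullDim R).le.trans
        (Ring.krullDimLE_iff.1 (inferInstance : Ring.KrullDimLE 1 R))
    have hmem : ∀ z, X.hom (X.hom.fiberι (RelMinSmLib.eta (R := R)) z) = RelMinSmLib.eta (R := R) :=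
      fun z => (X.hom.range_fiberι _).le ⟨z, rfl⟩
    have hgr : ∀ z, X.hom.fiberι (RelMinSmLib.eta (R := R)) z ∈ Set.range g := fun z => (hrg _).2 (hmem z)
    let φ : ↥(X.hom.fiber (RelMinSmLib.eta (R := R))) → ↥(pullback X.hom (Neron.genPt R)) :=
      fun z => g.isOpenEmbedding.isEmbedding.toHomeomorph.symm ⟨_, hgr z⟩
    have hφ : Topology.IsInducing φ := g.isOpenEmbedding.isEmbedding.toHomeomorph.symm.isInducing.comp
      ((X.hom.fiberι (RelMinSmLib.eta (R := R))).isEmbedding.isInducing.codRestrict hgr)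
    have h4 := (Groth.Agent.S4690.result X.hom hdom).1
    rw [hgen, hdim] at h4
    exact absurd (h4.trans (add_le_add hR (hφ.topologicalKrullDim_le.trans h0))) (by decide)

theorem J_le [IsProper X.hom] {r : ℕ} (Γ : Fin r → ArSurf.VertComp R X) (a : Fin r → ℕ) (i : Fin r) (hi : 1 ≤ a i) :
    VertChiLib.J Γ a ≤ (Γ i).ι.ker := by
  classical
  obtain ⟨b, rfl⟩ : ∃ b, a = b + Pi.single i 1 := ⟨a - Pi.single i 1, funext fun j => by
    rcases eq_or_ne j i with rfl | hj
    · simp; omega
    · simp [hj]⟩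
  rw [VertChiLib.J_add, VertChiLib.J_single]
  intro U
  rw [Scheme.IdealSheafData.ideal_mul, Pi.mul_apply]
  exact Ideal.mul_le_right (I := (VertChiLib.J Γ b).ideal U) (J := ((Γ i).ι.ker).ideal U)

theorem mem_support_J {r : ℕ} (Γ : Fin r → ArSurf.VertComp R X) (a : Fin r → ℕ) {x : X.left}
    (hx : x ∈ ((VertChiLib.J Γ a).support : Set X.left)) :
    ∃ j, x ∈ Set.range ((Γ j).ι.base : (Γ j).curve.left → X.left) := by
  have hx' : x ∈ (∏ j ∈ (Finset.univ : Finset (Fin r)), (Γ j).ι.ker ^ a j).support := hx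
  obtain ⟨j, -, hj⟩ := (SurfAmpleLib.mem_support_finprod _ _ x).1 hx'
  rw [show (Γ j).ι.ker ^ a j = ∏ _k ∈ Finset.range (a j), (Γ j).ι.ker by
    rw [Finset.prod_const, Finset.card_range]] at hj
  obtain ⟨-, -, hk⟩ := (SurfAmpleLib.mem_support_finprod _ _ x).1 hj
  refine ⟨j, ?_⟩
  have h2 : x ∈ ((Γ j).ι.ker.support : Set X.left) := hk
  rwa [Scheme.Hom.support_ker, (Γ j).ι.isClosedEmbedding.isClosed_range.closure_eq] at h2

/-- **Artin's criterion**: a negative definite configuration on which line bundles of degree zero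
are trivial is contractible. -/
theorem exists_contraction (hX : ArSurf.IsArithSurface R X) {r : ℕ} (Γ : Fin r → ArSurf.VertComp R X)
    (hΓ : Function.Injective fun i => Set.range ((Γ i).ι.base : (Γ i).curve.left → X.left))
    (L : Fin r → X.left.Modules) (hL : ∀ j, ClSub.IsInverseOf (L j) (ClSub.idealMod (Γ j).ι.ker))
    (hneg : ∀ a : Fin r → ℤ, a ≠ 0 →
      (Finset.univ : Finset (Fin r × Fin r)).sum (fun p => a p.1 * a p.2 * ArSurf.inter R X (L p.2) (Γ p.1)) < 0)
    (hpic : ∀ a : Fin r → ℕ, (∀ j, 1 ≤ a j) → ∀ N : (VertChiLib.J Γ a).subscheme.Modules, PicF.IsInvertible N →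
      (∀ (i : Fin r) (g : (Γ i).curve.left ⟶ (VertChiLib.J Γ a).subscheme),
        g ≫ (VertChiLib.J Γ a).subschemeι = (Γ i).ι →
          ArSurf.curveDeg (IsLocalRing.ResidueField R) (Γ i).curve.left ((Scheme.Modules.pullback g).obj N) = 0) →
      Nonempty (N ≅ Coh.structureModule (VertChiLib.J Γ a).subscheme)) :
    ∃ (Y : Over (Spec (CommRingCat.of R))) (f : X ⟶ Y),
      IsIntegral Y.left ∧ (∀ q : Y.left, IsIntegrallyClosed (Y.left.presheaf.stalk q)) ∧
      topologicalKrullDim Y.left = 2 ∧ Flat Y.hom ∧ Neron.IsProjectiveOver R Y ∧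
      (∀ i, ∃ y : Y.left, Set.range (((Γ i).ι ≫ f.left).base : (Γ i).curve.left → Y.left) = {y}) ∧
      f.left.base ⁻¹' (f.left.base '' ⋃ i, Set.range (Γ i).ι.base) = ⋃ i, Set.range (Γ i).ι.base ∧
      ∀ V : Y.left.Opens, (V : Set Y.left) ∩ f.left.base '' (⋃ i, Set.range (Γ i).ι.base) = ∅ →
        IsIso (f.left ∣_ V) := by
  classical
  haveI : IsProper X.hom := VertIntLib.isProper_of_isArithSurface hX
  obtain ⟨hreg, hint, hdim, hflat, N₀, i₀, hi₀, hiX⟩ := hX
  haveI := hint
  haveI := hflat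
  haveI := hi₀
  haveI : IsLocallyNoetherian X.left := LocallyOfFiniteType.isLocallyNoetherian X.hom
  haveI : CompactSpace X.left := QuasiCompact.compactSpace_of_compactSpace X.hom
  haveI : X.left.IsSeparated := Scheme.IsSeparated.mk (by
    rw [terminal.hom_ext (terminal.from X.left) (X.hom ≫ terminal.from _)]
    infer_instance)
  haveI hEp : ∀ E : ArSurf.VertComp R X,
      IsProper (E.curve.left ↘ Spec (CommRingCat.of (IsLocalRing.ResidueField R))) :=
    fun E => VertIntLib.isProper_curve E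
  have hnor : ∀ x : X.left, IsIntegrallyClosed (X.left.presheaf.stalk x) := fun x =>
    haveI := hreg x
    Groth.Agent.S9829.result _
  have hG : ∀ E : ArSurf.VertComp R X, VertIntLib.IsFibGen (Models.genPtOf R X E) :=
    fun E => VertIntLib.isFibGen_of_dim hdim.le E
  have hC : ∀ i, BlowUp.IsEffCartierIdeal (Γ i).ι.ker := fun i =>
    VertIntLib.isEffCartier_ker hreg (Γ i) (hG (Γ i))
  have hLi : ∀ j, PicF.IsInvertible (L j) := fun j => VertIntLib.isInvertible_inverse (hC j) (hL j)
  have hoff : ∀ (E : ArSurf.VertComp R X) (j : Fin r), Set.range (E.ι.base : E.curve.left → X.left) ≠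
      Set.range (Γ j).ι.base → 0 ≤ ArSurf.inter R X (L j) E := fun E j hne =>
    (VertIntLib.inter_effective_nonneg E (hC j)
      (VertIntLib.genPt_not_mem E hdim.le (Γ j) hne) (hL j)).1
  -- an ample module
  let H : X.left.Modules := pb i₀ (Twist.twistOver N₀ (Spec (CommRingCat.of R)) 1)
  have hHi : PicF.IsInvertible H := AmpleDevLib.isInvertible_pb _ (PicPnLib.twistOver_inv N₀ _ 1)
  have hHA : CohB1.IsAmple H :=
    AmpleThLib.isAmple_of_isRelVeryAmplePn X.hom hHi ⟨N₀, i₀, inferInstance, hiX, ⟨Iso.refl _⟩⟩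
  have hHpos : ∀ E : ArSurf.VertComp R X, 0 < ArSurf.inter R X H E := fun E => by
    rw [VertIntLib.inter_eq_deg]
    exact SerreVanLib.deg_pos_of_isAmple (k := IsLocalRing.ResidueField R) E.dim_eq
      (AmpleDevLib.isAmple_pb (f := E.ι) hHi hHA)
  obtain ⟨a, K, hK, haK⟩ := exists_natural_solution (Matrix.of fun i j => ArSurf.inter R X (L j) (Γ i))
    (fun c hc => by
      refine lt_of_eq_of_lt ?_ (hneg c hc)
      simp only [dotProduct, Matrix.mulVec, Matrix.of_apply, Finset.mul_sum]
      rw [← Finset.univ_product_univ, Finset.sum_product]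
      exact Finset.sum_congr rfl fun i _ => Finset.sum_congr rfl fun j _ => by ring)
    (fun i j hij => hoff (Γ i) j fun e => hij (hΓ e))
    (fun i => ArSurf.inter R X H (Γ i)) (fun i => (hHpos _).le)
  have hapos : ∀ i, 1 ≤ a i := fun i => by
    by_contra hi
    have h := haK i
    have : 0 ≤ ∑ j, (a j : ℤ) * (Matrix.of fun i j => ArSurf.inter R X (L j) (Γ i)) i j :=
      Finset.sum_nonneg fun j _ => by
        rcases eq_or_ne j i with rfl | hj
        · rw [show a j = 0 by omega, Nat.cast_zero, zero_mul]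
        · exact mul_nonneg (Nat.cast_nonneg _) (hoff (Γ i) j fun e => hj (hΓ e).symm)
    rw [h] at this
    have h1 : 0 < (K : ℤ) * ArSurf.inter R X H (Γ i) := mul_pos (by exact_mod_cast hK) (hHpos _)
    omega
  -- vanishing and generation for a high power
  obtain ⟨n₁, hn₁⟩ := SerreVanLib.exists_vanishing X.hom hHi hHA (Coh.structureModule X.left)
    (DevissLib.isCoh_structureModule _)
  obtain ⟨n₂, hn₂0, hn₂⟩ := Groth.Agent.S2329.result X.left H (Coh.structureModule X.left) hHA
    CurvLib.isInvertible_structureModule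
  let M := n₁ + n₂
  have hM : 1 ≤ M := by omega
  let n := K * M
  have hn : M ≤ n := Nat.le_mul_of_pos_left M hK
  let b : Fin r → ℕ := fun j => M * a j
  have hb : ∀ j, 1 ≤ b j := fun j => Nat.one_le_iff_ne_zero.2 (Nat.mul_ne_zero (by omega) (by have := hapos j; omega))
  let I := VertChiLib.J Γ b
  have hI : BlowUp.IsEffCartierIdeal I := VertChiLib.isEffCartier_J hC b
  let P := CohB1.tensorPow H n
  have hP : PicF.IsInvertible P := AmpleThLib.tensorPow_isInvertible hHi n
  obtain ⟨LZ, hLZ⟩ := VertIntLib.exists_inverse (IntMultLib.isInvertible_idealMod _ hI)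
  have hLZi : PicF.IsInvertible LZ := VertIntLib.isInvertible_inverse hI hLZ
  let F := CohB1.tensorMod P LZ
  have hF : PicF.IsInvertible F := shT_isInvertible hP hLZi
  -- intersection numbers
  have hinter : ∀ E : ArSurf.VertComp R X, ArSurf.inter R X F E =
      (n : ℤ) * ArSurf.inter R X H E + ∑ j, (b j : ℤ) * ArSurf.inter R X (L j) E := fun E => by
    rw [VertIntLib.inter_tensor hP hLZi, (VertIntLib.pow_spec hHi E n).2,
      VertIntLib.inter_eq_neg E hI hLZ, VertChiLib.dId_J E hC b, ← Finset.sum_neg_distrib]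
    refine congrArg _ (Finset.sum_congr rfl fun j _ => ?_)
    rw [VertIntLib.inter_eq_neg E (hC j) (hL j), mul_neg]
  have hzero : ∀ i, ArSurf.inter R X F (Γ i) = 0 := fun i => by
    rw [hinter]
    have h := haK i
    simp only [Matrix.of_apply] at h
    have h' : ∑ j, (b j : ℤ) * ArSurf.inter R X (L j) (Γ i) = (M : ℤ) * ∑ j, (a j : ℤ) * ArSurf.inter R X (L j) (Γ i) := by
      rw [Finset.mul_sum]
      exact Finset.sum_congr rfl fun j _ => by simp [b, mul_assoc]
    rw [h', h]
    simp only [n]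
    push_cast
    ring
  -- triviality on the divisor
  have hdeg0 : ∀ {E : ArSurf.VertComp R X} {N : E.curve.left.Modules}, Nonempty (N ≅ pb E.ι F) →
      ArSurf.curveDeg (IsLocalRing.ResidueField R) E.curve.left N = ArSurf.inter R X F E := fun {E N} ⟨e⟩ => by
    have hd : topologicalKrullDim E.curve.left ≤ ((1 : ℕ) : WithBot ℕ∞) := E.dim_eq.le
    rw [ArSurf.inter, ArSurf.curveDeg, ArSurf.curveDeg,
      HilbPolyLib.eulerCharLE_eq (k := IsLocalRing.ResidueField R) hd,
      HilbPolyLib.eulerCharLE_eq (k := IsLocalRing.ResidueField R) hd,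
      HilbPolyLib.eulerCharLE_eq (k := IsLocalRing.ResidueField R) hd,
      CurvLib.euler_congr (k := IsLocalRing.ResidueField R) e]
  obtain ⟨eI⟩ := hpic b hb (pb I.subschemeι F) (AmpleDevLib.isInvertible_pb _ hF) fun i g hg =>
    (hdeg0 ⟨(Scheme.Modules.pullbackComp g I.subschemeι).app F ≪≫
      (Scheme.Modules.pullbackCongr hg).app F⟩).trans (hzero i)
  have htrivΓ : ∀ i, Nonempty (pb (Γ i).ι F ≅ Coh.structureModule (Γ i).curve.left) := fun i => by
    let g := IsClosedImmersion.lift I.subschemeι (Γ i).ι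
      (by rw [Scheme.IdealSheafData.ker_subschemeι]; exact J_le Γ b i (hb i))
    have hg : g ≫ I.subschemeι = (Γ i).ι := IsClosedImmersion.lift_fac _ _ _
    exact ⟨((Scheme.Modules.pullbackCongr hg).app F).symm ≪≫
      ((Scheme.Modules.pullbackComp g I.subschemeι).app F).symm ≪≫
      (Scheme.Modules.pullback g).mapIso eI ≪≫ KFlatLib.pullUnitIso g⟩
  -- global generation
  obtain ⟨sZ, hsZ⟩ := exists_section hLZi hLZ
  have hggP : ∀ x, ∃ τ, x ∈ genSet hP τ := fun x =>
    Groth.Agent.S1611.exists_genAt_of_gg hP (MiscFlat6.isGloballyGenerated_of_iso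
      (swapIso _ _ ≪≫ unitLeft _) (hn₂ n (by omega)).2) x
  have hgg : Curv2.IsGloballyGenerated F := by
    refine MiscFlat6.isGloballyGenerated_of_genSections hF fun x => ?_
    by_cases hx : x ∈ (I.support : Set X.left)
    · obtain ⟨z, rfl⟩ := I.range_subschemeι.ge hx
      obtain ⟨T, hT, ⟨e₁⟩, ⟨e₂⟩, ⟨e₃⟩⟩ := HdgLefLib.exists_restrict_seq I
        (AmpleDevLib.isFinLocFree_of_isInvertible hF)
      obtain ⟨φ⟩ := hLZ
      let e₁' : T.X₁ ≅ P := e₁ ≪≫ assocIso _ _ _ ≪≫ congrRight _ φ ≪≫ swapIso _ _ ≪≫ unitLeft _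
      have hsub : Subsingleton (Coh.HH X.left P 1) :=
        SerreVanLib.subsingleton_HH_of_iso (unitLeft P).symm 1 (hn₁ n (by omega) 1 one_pos)
      let τ : Γ(pb I.subschemeι F, ⊤) := eI.inv.app ⊤ (1 : Γ(I.subscheme, ⊤))
      have hτ : z ∈ genSet (AmpleDevLib.isInvertible_pb _ hF) τ :=
        (AmpleThLib.genSet_iso CurvLib.isInvertible_structureModule (AmpleDevLib.isInvertible_pb _ hF) eI.symm
          (show Γ(Coh.structureModule I.subscheme, ⊤) from (1 : Γ(I.subscheme, ⊤)))).ge
          ((one_genOn (⊤ : I.subscheme.Opens)).genAt trivial)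
      obtain ⟨σ, hσ⟩ := (EvGGLib.step X.hom hT e₁' e₂ e₃).2 (Function.injective_of_subsingleton _) τ
      exact ⟨σ, EvGGLib.mem_genSet_of_image _ hF (AmpleDevLib.isInvertible_pb _ hF)
        (e₂.inv ≫ T.g ≫ e₃.hom) σ z ((congrArg (fun t => z ∈ genSet (AmpleDevLib.isInvertible_pb _ hF) t) hσ).mpr hτ)⟩
    · obtain ⟨τ, hτ⟩ := hggP x
      exact ⟨shT τ sZ, (genSet_shT hP hLZi τ sZ).ge ⟨hτ, (hsZ x).2 hx⟩⟩
  refine Groth.Agent.S7893.result R X hnor hdim ⟨N₀, i₀, hi₀, hiX⟩ Γ hΓ F hF hgg ?_ fun E => ⟨fun e => ?_, fun ⟨i, hi⟩ => ?_⟩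
  · -- the degree on the generic fibre
    let g := pullback.fst X.hom (Neron.genPt R)
    haveI : IsOpenImmersion (Neron.genPt R) := Groth.Agent.S3250.isOpenImmersion_genPt R
    have hrg : ∀ x, x ∈ Set.range g ↔ X.hom x = RelMinSmLib.eta (R := R) := fun x => by
      rw [Scheme.Pullback.range_fst, RelMinSmLib.range_genPt]; rfl
    obtain ⟨a₀, ha₀⟩ := (hrg _).2 (VertIntLib.genericPoint_over (X := X))
    haveI : Nonempty ↥(pullback X.hom (Neron.genPt R)) := ⟨a₀⟩
    letI : (pullback X.hom (Neron.genPt R)).Over (Spec (CommRingCat.of (FractionRing R))) :=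
      ⟨((Neron.genericFibre R).obj X).hom⟩
    haveI : IsProper ((pullback X.hom (Neron.genPt R)) ↘ Spec (CommRingCat.of (FractionRing R))) :=
      inferInstanceAs (IsProper (pullback.snd X.hom (Neron.genPt R)))
    haveI : IsIntegral (pullback X.hom (Neron.genPt R)) := isIntegral_of_isOpenImmersion g
    haveI : IsAffineHom g := MorphismProperty.pullback_fst _ _ inferInstance
    have hd1 : topologicalKrullDim ↥(pullback X.hom (Neron.genPt R)) = 1 := dim_genericFibre hdim
    have hnI : ∀ z, g z ∈ genSet hLZi sZ := fun z => (hsZ _).2 fun h => by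
      obtain ⟨j, w, hw⟩ := mem_support_J Γ b h
      have h1 := (hrg _).1 ⟨z, rfl⟩
      rw [← hw] at h1
      exact VertIntLib.eta_ne_closedPoint (h1.symm.trans (hover_closed (Γ j) w))
    obtain ⟨eZ⟩ := pull_trivial_of_genSet g hLZi sZ hnI
    have hA : CohB1.IsAmple P := (AmpleThLib.isAmple_tensorPow_iff hHi (n := n) (by omega)).1 hHA
    have hgA : CohB1.IsAmple (pb g P) := AmpleDevLib.isAmple_pb (f := g) hP hA
    have key := SerreVanLib.deg_pos_of_isAmple (k := FractionRing R) hd1 hgA
    let eF : pb g F ≅ pb g P := PicPnLib.pullTens g P LZ ≪≫ congrRight _ eZ ≪≫ swapIso _ _ ≪≫ unitLeft _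
    rw [← CurvLib.deg_congr eF 1, Curv2.deg, Nat.cast_one, one_mul] at key
    have hd1' : topologicalKrullDim ↥(pullback X.hom (Neron.genPt R)) ≤ ((1 : ℕ) : WithBot ℕ∞) := hd1.le
    show (0 : ℤ) < ArSurf.curveDeg (FractionRing R) (pullback X.hom (Neron.genPt R)) (pb g F)
    rw [ArSurf.curveDeg, HilbPolyLib.eulerCharLE_eq (k := FractionRing R) hd1',
      HilbPolyLib.eulerCharLE_eq (k := FractionRing R) hd1']
    exact key
  · by_contra hne
    push Not at hne
    obtain ⟨e⟩ := e
    have key : ArSurf.inter R X F E = 0 := by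
      rw [VertIntLib.inter_eq_deg, CurvLib.deg_congr e]
      simp [Curv2.deg]
    rw [hinter] at key
    have h1 : 0 < (n : ℤ) * ArSurf.inter R X H E := mul_pos (by exact_mod_cast (by omega : 0 < n)) (hHpos E)
    have h2 : 0 ≤ ∑ j, (b j : ℤ) * ArSurf.inter R X (L j) E :=
      Finset.sum_nonneg fun j _ => mul_nonneg (Nat.cast_nonneg _) (hoff E j (hne j))
    omega
  · obtain ⟨t⟩ := htrivΓ i
    have hr : Set.range E.ι ⊆ Set.range (Γ i).ι := hi.le
    let g := IsClosedImmersion.lift (Γ i).ι E.ι (by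
      rw [AlgSpRegLib.ker_eq_vanishingIdeal E.ι, AlgSpRegLib.ker_eq_vanishingIdeal (Γ i).ι]
      exact Scheme.IdealSheafData.vanishingIdeal_antimono (closure_mono hr))
    have hg : g ≫ (Γ i).ι = E.ι := IsClosedImmersion.lift_fac _ _ _
    exact ⟨((Scheme.Modules.pullbackCongr hg).app F).symm ≪≫
      ((Scheme.Modules.pullbackComp g (Γ i).ι).app F).symm ≪≫
      (Scheme.Modules.pullback g).mapIso t ≪≫ KFlatLib.pullUnitIso g⟩

end ContractLib
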