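import Groth.Agent.EvGGLib.Main
import Groth.Agent.CurveAmpLib.Affine
import Groth.Agent.AmpleDevLib.Pull

/-!
# The canonical section of a divisor and products of generated line bundles
-/

set_option autoImplicit false
set_option linter.style.haveILetI false
set_option backward.isDefEq.respectTransparency false
set_option maxHeartbeats 800000
universe u

open CategoryTheory CategoryTheory.Limits AlgebraicGeometry TopologicalSpace Opposite
open AmpleLib AmpleThLib
open TwistLib (genSet)
open KFlatLib (pb puSec)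

noncomputable section

namespace ContractLib

variable {X : Scheme.{u}}

/-- The direct image of an invertible module is nonzero at the points of the closed subscheme. -/
theorem mem_support_push (I : X.IdealSheafData) {N : I.subscheme.Modules} (hN : PicF.IsInvertible N)
    (z : I.subscheme) : ¬ Subsingleton (((Coh.push I.subschemeι).obj N).presheaf.stalk (I.subschemeι z)) := by
  intro h
  obtain ⟨U, e, hzU, he⟩ := TwistLib.exists_genOn hN z
  obtain ⟨U', hU'⟩ := I.subschemeι.isEmbedding.isInducing.isOpen_iff.1 U.isOpen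
  let W : X.Opens := ⟨U', hU'.1⟩
  have hW : I.subschemeι ⁻¹ᵁ W = U := Opens.ext hU'.2
  have hzW : I.subschemeι z ∈ W := by
    show z ∈ I.subschemeι ⁻¹ᵁ W
    rw [hW]; exact hzU
  let t : Γ((Coh.push I.subschemeι).obj N, W) := res N hW.le e
  obtain ⟨W', hW', hzW', h0⟩ := (QCohLib.subsingleton_stalk_iff _ _).1 h W hzW t
  have he' : GenOn N (res N (le_trans (Scheme.Hom.preimage_mono I.subschemeι hW') hW.le) e) := he.res _
  have h1 : res N (le_trans (Scheme.Hom.preimage_mono I.subschemeι hW') hW.le) e = 0 := by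
    rw [← res_res N hW.le (Scheme.Hom.preimage_mono I.subschemeι hW') e]
    exact h0
  rw [h1] at he'
  have h2 := he'.genAt (x := z) hzW'
  exact one_ne_zero (h2.1 (show (1 : I.subscheme.presheaf.stalk z) • _ = (0 : I.subscheme.presheaf.stalk z) • _ by simp [map_zero]))

/-- The canonical section of `O(D)` generates exactly outside `D`. -/
theorem exists_section {I : X.IdealSheafData} {L : X.Modules} (hL : PicF.IsInvertible L)
    (hLI : ClSub.IsInverseOf L (ClSub.idealMod I)) :
    ∃ s : Γ(L, ⊤), ∀ x, x ∈ genSet hL s ↔ x ∉ (I.support : Set X) := by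
  obtain ⟨T, hT, ⟨e₁⟩, ⟨e₂⟩, ⟨e₃⟩⟩ := EvGGLib.exists_seq hL hLI 0
  let e : CohB1.tensorPow L (0 + 1) ≅ L := HilbPolyLib.unitLeft L
  let f : Coh.structureModule X ⟶ L := e₁.inv ≫ T.f ≫ e₂.hom ≫ e.hom
  haveI := hT.mono_f
  haveI := hT.epi_g
  refine ⟨f.app ⊤ (1 : Γ(X, ⊤)), fun x => ⟨fun hs hx => ?_, fun hx => ?_⟩⟩
  · obtain ⟨z, rfl⟩ := I.range_subschemeι.ge hx
    let St := DerSch.stalkFunctor X (I.subschemeι z)
    have hsurj : Function.Surjective (St.map f).hom := fun b => by
      obtain ⟨c, hc⟩ := (show GenAt L (f.app ⊤ (1 : Γ(X, ⊤))) (show I.subschemeι z ∈ (⊤ : X.Opens) from trivial) from hs).2 b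
      dsimp only at hc
      refine ⟨c • (Coh.structureModule X).presheaf.germ ⊤ (I.subschemeι z) trivial (1 : Γ(X, ⊤)), ?_⟩
      rw [map_smul]
      exact (congrArg (c • ·) (DerSch.stalkFunctor_map_germ (I.subschemeι z) f ⊤ trivial _)).trans hc
    haveI : Epi (St.map f) := (ModuleCat.epi_iff_surjective _).2 hsurj
    have hz : f ≫ e.inv ≫ e₂.inv ≫ T.g ≫ e₃.hom = 0 := by
      simp only [f, Category.assoc, Iso.hom_inv_id_assoc]
      rw [reassoc_of% T.zero]
      simp
    haveI : Epi (St.map (e.inv ≫ e₂.inv ≫ T.g ≫ e₃.hom)) := by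
      simp only [Functor.map_comp]
      infer_instance
    have h0 : St.map (e.inv ≫ e₂.inv ≫ T.g ≫ e₃.hom) = 0 := by
      rw [← cancel_epi (St.map f), ← St.map_comp, hz, comp_zero, Functor.map_zero]
    have hZ : IsZero (St.obj ((Coh.push I.subschemeι).obj (pb I.subschemeι (CohB1.tensorPow L (0 + 1))))) := by
      rw [IsZero.iff_id_eq_zero, ← cancel_epi (St.map (e.inv ≫ e₂.inv ≫ T.g ≫ e₃.hom)), h0]
      simp
    exact mem_support_push I (AmpleDevLib.isInvertible_pb _ (tensorPow_isInvertible hL (0 + 1))) z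
      (ModuleCat.subsingleton_of_isZero hZ)
  · refine EvGGLib.genAt_app f ?_ ((one_genOn (⊤ : X.Opens)).genAt trivial)
    have h3 : Subsingleton ((DerSch.stalkFunctor X x).obj T.X₃) := by
      by_contra h
      have hx' : x ∈ CohB1.support T.X₃ := h
      rw [DevissLib.support_iso e₃] at hx'
      exact hx (I.range_subschemeι.le (DevissLib.support_push_subset I.subschemeι _ hx'))
    haveI : Subsingleton (T.map (DerSch.stalkFunctor X x)).X₃ := h3
    haveI : Epi ((DerSch.stalkFunctor X x).map T.f) :=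
      (hT.exact.map (DerSch.stalkFunctor X x)).epi_f
        ((ModuleCat.isZero_of_subsingleton _).eq_of_tgt _ _)
    haveI : IsIso ((DerSch.stalkFunctor X x).map T.f) := isIso_of_mono_of_epi _
    haveI : IsIso ((DerSch.stalkFunctor X x).map f) := by
      simp only [f, Functor.map_comp]
      infer_instance
    exact (ConcreteCategory.isIso_iff_bijective _).1 inferInstance

/-- A line bundle with a section generating along a morphism pulls back trivially. -/
theorem pull_trivial_of_genSet {Z : Scheme.{u}} (g : Z ⟶ X) {M : X.Modules} (hM : PicF.IsInvertible M)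
    (σ : Γ(M, ⊤)) (h : ∀ z, g z ∈ genSet hM σ) : Nonempty (pb g M ≅ Coh.structureModule Z) := by
  have hg : GenOn (pb g M) (puSec g σ : Γ(pb g M, ⊤)) := TwistLib.genOn_of_genAt fun z _ =>
    (show z ∈ genSet (AmpleDevLib.isInvertible_pb g hM) (puSec g σ : Γ(pb g M, ⊤)) from
      (AmpleDevLib.genSet_puSec g hM σ).ge (h z))
  haveI := AmpleLib.isIso_unitHom _ hg
  exact ⟨(asIso (QCohLib.unitHom (pb g M) (puSec g σ : Γ(pb g M, ⊤)))).symm⟩

/-- A finite product of generated line bundles with sections. -/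
theorem exists_tensor {ι : Type*} (t : Finset ι) (M : ι → X.Modules) (hM : ∀ j, PicF.IsInvertible (M j))
    (hgen : ∀ j x, ∃ τ, x ∈ genSet (hM j) τ) (σ : ∀ j, Γ(M j, ⊤)) :
    ∃ (L : X.Modules) (hL : PicF.IsInvertible L) (s : Γ(L, ⊤)),
      (∀ x, ∃ τ, x ∈ genSet hL τ) ∧ ∀ x, x ∈ genSet hL s ↔ ∀ j ∈ t, x ∈ genSet (hM j) (σ j) := by
  classical
  induction t using Finset.induction_on with
  | empty =>
    have hO : ∀ x, x ∈ genSet CurvLib.isInvertible_structureModule
        (show Γ(Coh.structureModule X, ⊤) from (1 : Γ(X, ⊤))) := fun x => (one_genOn (⊤ : X.Opens)).genAt trivial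
    exact ⟨_, _, _, fun x => ⟨_, hO x⟩, fun x => ⟨fun _ j hj => absurd hj (Finset.notMem_empty j), fun _ => hO x⟩⟩
  | insert a s ha ih =>
    obtain ⟨L, hL, t, hg, ht⟩ := ih
    refine ⟨_, shT_isInvertible hL (hM a), shT t (σ a), fun x => ?_, fun x => ?_⟩
    · obtain ⟨τ, hτ⟩ := hg x
      obtain ⟨τ', hτ'⟩ := hgen a x
      exact ⟨shT τ τ', (genSet_shT hL (hM a) τ τ').ge ⟨hτ, hτ'⟩⟩
    · constructor
      · intro h j hj
        obtain ⟨h1, h2⟩ := (genSet_shT hL (hM a) t (σ a)).le h
        rcases Finset.mem_insert.1 hj with rfl | hj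
        · exact h2
        · exact (ht x).1 h1 j hj
      · intro h
        exact (genSet_shT hL (hM a) t (σ a)).ge
          ⟨(ht x).2 fun j hj => h j (Finset.mem_insert_of_mem hj), h a (Finset.mem_insert_self _ _)⟩

/-- A line bundle on a curve with a section generating somewhere but not everywhere has positive degree. -/
theorem deg_pos_of_mem (k : Type u) [Field k] {Y : Scheme.{u}} [Y.Over (Spec (CommRingCat.of k))] [IsIntegral Y]
    [IsProper (Y ↘ Spec (CommRingCat.of k))] (hdim : topologicalKrullDim Y = 1) (g : Y ⟶ X)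
    {M : X.Modules} (hM : PicF.IsInvertible M) (σ : Γ(M, ⊤)) {a b : Y}
    (ha : g a ∈ genSet hM σ) (hb : g b ∉ genSet hM σ) : 0 < Curv2.deg k Y (pb g M) 1 := by
  have e := AmpleDevLib.genSet_puSec g hM σ
  refine CurveAmpLib.deg_pos_of_section k hdim _ (puSec g σ) ⟨a, e.ge ha⟩ fun h => hb ?_
  exact e.le (h.ge (show b ∈ (⊤ : Y.Opens) from trivial))

end ContractLib
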